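import Groth.Prelude.Def_Pi1
import Groth.Agent.Lib.Curves.FrobPow
import Groth.Agent.Lib.H58FrobHomeo
import Groth.Agent.Lib.UnivHomeo.Basic
import Groth.Agent.Lib.ModelFibre.GoingDown
import Mathlib.FieldTheory.PurelyInseparable.Exponent

/-! An iterate of the absolute Frobenius factors through a universal homeomorphism onto a normal
integral scheme. -/

set_option autoImplicit false
set_option linter.style.haveILetI false
universe u

open CategoryTheory CategoryTheory.Limits AlgebraicGeometry TopologicalSpace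

noncomputable section

namespace Groth.Agent.Lib.UHFrob98.Factor

open Groth.Agent.Lib Groth.Agent.Lib.Curves

variable {p : ℕ} [Fact p.Prime] {X Y : Scheme.{u}} [IsIntegral X] [IsIntegral Y]
  (u : X ⟶ Y) (e : u (genericPoint X) = genericPoint Y)

include e in
theorem nonempty_preimage (V : Y.Opens) [hV : Nonempty V] : Nonempty (u ⁻¹ᵁ V : X.Opens) :=
  ⟨⟨genericPoint X, show u (genericPoint X) ∈ V from e ▸
    ((genericPoint_spec Y).mem_open_set_iff V.2).mpr ⟨_, Set.mem_univ _, hV.some.2⟩⟩⟩

theorem isScalarTower_sections (V : Y.Opens) [Nonempty V] [Nonempty (u ⁻¹ᵁ V : X.Opens)]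
    (s : Γ(Y, V)) :
    (Y.presheaf.stalkSpecializes (specializes_of_eq e) ≫ u.stalkMap (genericPoint X)).hom
      (algebraMap Γ(Y, V) Y.functionField s) =
      algebraMap Γ(X, u ⁻¹ᵁ V) X.functionField (u.app V s) := by
  have hηV : genericPoint Y ∈ V :=
    ((genericPoint_spec Y).mem_open_set_iff V.2).mpr ⟨_, Set.mem_univ _, (Classical.arbitrary V).2⟩
  have hη' : genericPoint X ∈ u ⁻¹ᵁ V := show u (genericPoint X) ∈ V from e ▸ hηV
  change u.stalkMap (genericPoint X) (Y.presheaf.stalkSpecializes (specializes_of_eq e)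
    (Y.presheaf.germ V (genericPoint Y) hηV s)) =
      X.presheaf.germ (u ⁻¹ᵁ V) (genericPoint X) hη' (u.app V s)
  rw [TopCat.Presheaf.germ_stalkSpecializes_apply]
  exact Scheme.Hom.germ_stalkMap_apply u V (genericPoint X) hη' s

/-- The extension of function fields of a finite dominant morphism is finite. -/
theorem finiteDimensional [IsFinite u] :
    letI := (Y.presheaf.stalkSpecializes (specializes_of_eq e) ≫ u.stalkMap (genericPoint X)).hom.toAlgebra
    FiniteDimensional Y.functionField X.functionField := by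
  letI algKL := (Y.presheaf.stalkSpecializes (specializes_of_eq e) ≫ u.stalkMap (genericPoint X)).hom.toAlgebra
  obtain ⟨V, hV, hηV, -⟩ := exists_isAffineOpen_mem_and_subset
    (show genericPoint Y ∈ (⊤ : Y.Opens) from trivial)
  haveI : Nonempty V := ⟨⟨_, hηV⟩⟩
  haveI := nonempty_preimage u e V
  haveI := functionField_isFractionRing_of_isAffineOpen Y V hV
  haveI := functionField_isFractionRing_of_isAffineOpen X (u ⁻¹ᵁ V) (hV.preimage u)
  letI := (u.app V).hom.toAlgebra
  letI algAL : Algebra Γ(Y, V) X.functionField :=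
    ((algebraMap Y.functionField X.functionField).comp (algebraMap Γ(Y, V) Y.functionField)).toAlgebra
  haveI : IsScalarTower Γ(Y, V) Y.functionField X.functionField := .of_algebraMap_eq' rfl
  haveI : IsScalarTower Γ(Y, V) Γ(X, u ⁻¹ᵁ V) X.functionField :=
    .of_algebraMap_eq fun s => isScalarTower_sections u e V s
  haveI : Module.Finite Γ(Y, V) Γ(X, u ⁻¹ᵁ V) := RingHom.finite_algebraMap.mp (u.finite_app V hV)
  haveI : FaithfulSMul Γ(Y, V) Γ(X, u ⁻¹ᵁ V) := by
    refine (faithfulSMul_iff_algebraMap_injective _ _).2 fun a b hab => ?_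
    have := congrArg (algebraMap Γ(X, u ⁻¹ᵁ V) X.functionField) hab
    rw [← IsScalarTower.algebraMap_apply, ← IsScalarTower.algebraMap_apply] at this
    exact IsFractionRing.injective Γ(Y, V) Y.functionField
      ((algebraMap Y.functionField X.functionField).injective this)
  haveI : IsLocalization (Algebra.algebraMapSubmonoid Γ(X, u ⁻¹ᵁ V) (nonZeroDivisors Γ(Y, V)))
      X.functionField := by
    refine (IsLocalization.iff_of_le_of_exists_dvd _ (nonZeroDivisors Γ(X, u ⁻¹ᵁ V)) ?_ ?_).mpr
      inferInstance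
    · rintro _ ⟨a, ha, rfl⟩
      exact mem_nonZeroDivisors_of_ne_zero ((map_ne_zero_iff _
        (FaithfulSMul.algebraMap_injective _ _)).mpr (nonZeroDivisors.ne_zero ha))
    · intro b hb
      obtain ⟨a, ha, hdvd⟩ := (Algebra.IsAlgebraic.isAlgebraic (R := Γ(Y, V)) b).exists_nonzero_dvd hb
      exact ⟨_, ⟨a, mem_nonZeroDivisors_of_ne_zero ha, rfl⟩, hdvd⟩
  exact Module.Finite.of_isLocalization Γ(Y, V) Γ(X, u ⁻¹ᵁ V) (nonZeroDivisors Γ(Y, V))

/-- The extension of function fields of a universally injective dominant morphism is purely inseparable. -/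
theorem exists_pow_mem [UniversallyInjective u] [FrobSch.IsCharP X p] [FrobSch.IsCharP Y p]
    (z : X.functionField) :
    ∃ n, z ^ p ^ n ∈
      (Y.presheaf.stalkSpecializes (specializes_of_eq e) ≫ u.stalkMap (genericPoint X)).hom.range := by
  have hpi := (((tfae_universallyInjective u).out 0 2
      (b := Function.Injective u ∧ ∀ x, (u.residueFieldMap x).hom.IsPurelyInseparable)).mp
        (inferInstance : UniversallyInjective u)).2 (genericPoint X)
  letI := (u.residueFieldMap (genericPoint X)).hom.toAlgebra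
  haveI : IsPurelyInseparable (Y.residueField (u (genericPoint X))) (X.residueField (genericPoint X)) := hpi
  haveI : CharP (Y.residueField (u (genericPoint X))) p :=
    (CharP.charP_iff_prime_eq_zero Fact.out).2 (H58FrobHomeo.natCast_residueField p Y _)
  haveI : ExpChar (Y.residueField (u (genericPoint X))) p := expChar_prime _ p
  obtain ⟨n, w, hw⟩ := (isPurelyInseparable_iff_pow_mem (Y.residueField (u (genericPoint X))) p).mp
    inferInstance (X.residue (genericPoint X) z)
  obtain ⟨t, rfl⟩ := Y.residue_surjective _ w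
  have ht : X.residue (genericPoint X) (u.stalkMap (genericPoint X) t) =
      X.residue (genericPoint X) (z ^ p ^ n) := by
    rw [map_pow, ← hw]
    exact congr($(Scheme.residue_residueFieldMap u (genericPoint X)) t).symm
  refine ⟨n, Y.presheaf.stalkSpecializes (specializes_of_eq e.symm) t, ?_⟩
  have h1 : Y.presheaf.stalkSpecializes (specializes_of_eq e)
      (Y.presheaf.stalkSpecializes (specializes_of_eq e.symm) t) = t := by
    rw [TopCat.Presheaf.stalkSpecializes_comp_apply, TopCat.Presheaf.stalkSpecializes_refl]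
    rfl
  show u.stalkMap (genericPoint X) (Y.presheaf.stalkSpecializes (specializes_of_eq e) _) = _
  rw [h1]
  exact RingHom.injective (R := X.functionField) (X.residue (genericPoint X)).hom ht

/-- The degree is a power of `p`, and the powers of this order descend. -/
theorem exists_degree [IsFinite u] [UniversallyInjective u] [FrobSch.IsCharP X p]
    [FrobSch.IsCharP Y p] :
    ∃ n : ℕ,
      @Module.finrank Y.functionField X.functionField _ _
        (Y.presheaf.stalkSpecializes (specializes_of_eq e) ≫ u.stalkMap (genericPoint X)).hom.toAlgebra.toModule = p ^ n ∧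
      ∀ z : X.functionField, z ^ p ^ n ∈
        (Y.presheaf.stalkSpecializes (specializes_of_eq e) ≫ u.stalkMap (genericPoint X)).hom.range := by
  haveI := finiteDimensional u e
  letI algKL := (Y.presheaf.stalkSpecializes (specializes_of_eq e) ≫ u.stalkMap (genericPoint X)).hom.toAlgebra
  haveI hKc : CharP Y.functionField p := by
    refine (CharP.charP_iff_prime_eq_zero Fact.out).2 ?_
    have h := congrArg (Y.presheaf.germ ⊤ (genericPoint Y) trivial).hom (FrobSch.IsCharP.natCast_eq_zero (X := Y) (p := p))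
    simpa using h
  haveI : ExpChar Y.functionField p := expChar_prime _ p
  haveI : IsPurelyInseparable Y.functionField X.functionField :=
    (isPurelyInseparable_iff_pow_mem Y.functionField p).mpr (exists_pow_mem u e)
  obtain ⟨n, hn⟩ := IsPurelyInseparable.finrank_eq_pow (F := Y.functionField) X.functionField p
  refine ⟨n, hn, fun z => ?_⟩
  have hd : p ^ IsPurelyInseparable.elemExponent Y.functionField z ∣ p ^ n := by
    rw [← IsPurelyInseparable.minpoly_natDegree_eq' Y.functionField p z, ← hn]
    exact minpoly.degree_dvd (Algebra.IsIntegral.isIntegral z)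
  have hle := (Nat.pow_dvd_pow_iff_le_right (Fact.out : p.Prime).one_lt).mp hd
  obtain ⟨y, hy⟩ := IsPurelyInseparable.elemExponent_def' Y.functionField p z
  refine ⟨y ^ p ^ (n - IsPurelyInseparable.elemExponent Y.functionField z), ?_⟩
  show algebraMap Y.functionField X.functionField _ = _
  rw [map_pow, hy, ← pow_mul, ← pow_add, Nat.add_sub_cancel' hle]

variable [IsFinite u] [Surjective u] [X.IsSeparated]

include e in
/-- An iterated absolute Frobenius factors through a finite cover of a normal scheme. -/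
theorem exists_factor (hnY : Pi1.IsNormalScheme Y) [FrobSch.IsCharP X p] (r : ℕ)
    (hpow : ∀ x : X.functionField, x ^ p ^ r ∈
      (Y.presheaf.stalkSpecializes (specializes_of_eq e) ≫ u.stalkMap (genericPoint X)).hom.range) :
    ∃ g : Y ⟶ X, u ≫ g = FrobPow.frobPow X p r := by
  let ι := {V : Y.Opens // IsAffineOpen V ∧ Nonempty V}
  -- powers of sections descend
  have key : ∀ (V : ι) (b : Γ(X, u ⁻¹ᵁ V.1)), b ^ p ^ r ∈ (u.app V.1).hom.range := by
    intro V b
    haveI := V.2.2
    haveI := nonempty_preimage u e V.1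
    have hU := V.2.1.preimage u
    haveI := ModelFibre.GoingDown.isIntegrallyClosed_section (fun z => (hnY z).2) V.2.1
    haveI := functionField_isFractionRing_of_isAffineOpen Y V.1 V.2.1
    letI := (u.app V.1).hom.toAlgebra
    letI algKL : Algebra Y.functionField X.functionField :=
      ((Y.presheaf.stalkSpecializes (specializes_of_eq e) ≫ u.stalkMap (genericPoint X)).hom).toAlgebra
    obtain ⟨a, ha⟩ := hpow (algebraMap Γ(X, u ⁻¹ᵁ V.1) X.functionField b)
    letI algAL : Algebra Γ(Y, V.1) X.functionField :=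
      ((algebraMap Y.functionField X.functionField).comp (algebraMap Γ(Y, V.1) Y.functionField)).toAlgebra
    haveI : IsScalarTower Γ(Y, V.1) Y.functionField X.functionField := .of_algebraMap_eq' rfl
    haveI : IsScalarTower Γ(Y, V.1) Γ(X, u ⁻¹ᵁ V.1) X.functionField :=
      .of_algebraMap_eq fun s => isScalarTower_sections u e V.1 s
    haveI : Module.Finite Γ(Y, V.1) Γ(X, u ⁻¹ᵁ V.1) :=
      RingHom.finite_algebraMap.mp (u.finite_app V.1 V.2.1)
    have hint : IsIntegral Γ(Y, V.1) a := by
      refine (isIntegral_algebraMap_iff (B := X.functionField) (algebraMap Y.functionField X.functionField).injective).mp ?_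
      change IsIntegral Γ(Y, V.1) (((Y.presheaf.stalkSpecializes (specializes_of_eq e) ≫
        u.stalkMap (genericPoint X)).hom) a)
      rw [ha, ← map_pow]
      exact (Algebra.IsIntegral.isIntegral (R := Γ(Y, V.1)) (b ^ p ^ r)).map
        (IsScalarTower.toAlgHom Γ(Y, V.1) Γ(X, u ⁻¹ᵁ V.1) X.functionField)
    obtain ⟨a', rfl⟩ := IsIntegrallyClosed.isIntegral_iff.mp hint
    refine ⟨a', ?_⟩
    haveI := functionField_isFractionRing_of_isAffineOpen X (u ⁻¹ᵁ V.1) hU
    refine IsFractionRing.injective Γ(X, u ⁻¹ᵁ V.1) X.functionField ?_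
    change algebraMap _ _ (algebraMap Γ(Y, V.1) Γ(X, u ⁻¹ᵁ V.1) a') = _
    rw [← IsScalarTower.algebraMap_apply, IsScalarTower.algebraMap_apply Γ(Y, V.1) Y.functionField X.functionField]
    exact ha.trans (map_pow _ _ _).symm
  have hinj : ∀ V : ι, Function.Injective (u.app V.1) := fun V => ModelFibre.GoingDown.injective_app u V.1
  let Φ := FrobPow.frobPow X p r
  let ψ : ∀ V : ι, Γ(X, u ⁻¹ᵁ V.1) →+* Γ(Y, V.1) := fun V =>
    (RingEquiv.ofBijective (u.app V.1).hom.rangeRestrict
      ⟨fun a b h => hinj V (congrArg Subtype.val h), (u.app V.1).hom.rangeRestrict_surjective⟩).symm.toRingHom.comp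
      ((Φ.appLE (u ⁻¹ᵁ V.1) (u ⁻¹ᵁ V.1) (FrobPow.le_preimage X p r _)).hom.codRestrict _ fun b => by
        rw [FrobPow.appLE_frobPow]
        exact key V b)
  have hψ : ∀ (V : ι), CommRingCat.ofHom (ψ V) ≫ u.app V.1 =
      Φ.appLE (u ⁻¹ᵁ V.1) (u ⁻¹ᵁ V.1) (FrobPow.le_preimage X p r _) := fun V => by
    ext b
    let E := RingEquiv.ofBijective (u.app V.1).hom.rangeRestrict
      ⟨fun a b h => hinj V (congrArg Subtype.val h), (u.app V.1).hom.rangeRestrict_surjective⟩
    exact congrArg Subtype.val (E.apply_symm_apply _)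
  -- the local maps
  let gl : ∀ V : ι, (V.1 : Scheme.{u}) ⟶ X := fun V =>
    V.1.toSpecΓ ≫ Spec.map (CommRingCat.ofHom (ψ V)) ≫ (V.2.1.preimage u).fromSpec
  have hgl : ∀ V : ι, (u ∣_ V.1) ≫ gl V = (u ⁻¹ᵁ V.1).ι ≫ Φ := fun V => by
    have hU := V.2.1.preimage u
    simp only [gl]
    rw [← Category.assoc, ← Scheme.Opens.toSpecΓ_naturality, Category.assoc, ← Category.assoc (Spec.map _),
      ← Spec.map_comp, hψ V, IsAffineOpen.SpecMap_appLE_fromSpec Φ hU hU, ← Category.assoc,
      hU.toSpecΓ_fromSpec]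
  have hcover : iSup (fun V : ι => V.1) = ⊤ := top_le_iff.mp fun y _ => by
    obtain ⟨V, hVa, hyV, -⟩ := exists_isAffineOpen_mem_and_subset (show y ∈ (⊤ : Y.Opens) from trivial)
    exact Opens.mem_iSup.mpr ⟨⟨V, hVa, ⟨⟨y, hyV⟩⟩⟩, hyV⟩
  let 𝒰 := Y.openCoverOfIsOpenCover (fun V : ι => V.1) hcover
  refine ⟨𝒰.glueMorphisms gl fun V W => ?_, ?_⟩
  · change pullback.fst V.1.ι W.1.ι ≫ gl V = pullback.snd V.1.ι W.1.ι ≫ gl W
    haveI : IsReduced (pullback V.1.ι W.1.ι) := isReduced_of_isOpenImmersion (pullback.fst V.1.ι W.1.ι)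
    haveI : Surjective (u ∣_ V.1) := IsZariskiLocalAtTarget.restrict (P := @Surjective) inferInstance V.1
    refine ext_of_isDominant (pullback.fst (pullback.fst V.1.ι W.1.ι) (u ∣_ V.1)) ?_
    let s := pullback.snd (pullback.fst V.1.ι W.1.ι) (u ∣_ V.1) ≫ (u ⁻¹ᵁ V.1).ι
    have hs : s ≫ u = (pullback.fst (pullback.fst V.1.ι W.1.ι) (u ∣_ V.1) ≫ pullback.snd V.1.ι W.1.ι) ≫ W.1.ι := by
      simp only [s]
      rw [Category.assoc, ← morphismRestrict_ι u V.1, ← Category.assoc, ← pullback.condition,
        Category.assoc, pullback.condition, ← Category.assoc]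
    let l := (isPullback_morphismRestrict u W.1).lift
      (pullback.fst (pullback.fst V.1.ι W.1.ι) (u ∣_ V.1) ≫ pullback.snd V.1.ι W.1.ι) s hs.symm
    have hl1 : l ≫ (u ∣_ W.1) = _ := (isPullback_morphismRestrict u W.1).lift_fst _ _ _
    have hl2 : l ≫ (u ⁻¹ᵁ W.1).ι = s := (isPullback_morphismRestrict u W.1).lift_snd _ _ _
    refine Eq.trans ?_ (Category.assoc _ _ _)
    refine (pullback.condition_assoc _).trans ?_
    refine (congrArg (pullback.snd (pullback.fst V.1.ι W.1.ι) (u ∣_ V.1) ≫ ·) (hgl V)).trans ?_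
    refine Eq.trans ?_ (congrArg (· ≫ gl W) hl1)
    refine Eq.trans ?_ (Category.assoc _ _ _).symm
    refine Eq.trans ?_ (congrArg (l ≫ ·) (hgl W)).symm
    exact (Category.assoc _ _ _).symm.trans ((congrArg (· ≫ Φ) hl2).symm.trans (Category.assoc _ _ _))
  · refine Scheme.Cover.hom_ext (𝒰.pullback₁ u) _ _ fun V => ?_
    change pullback.fst u V.1.ι ≫ u ≫ _ = pullback.fst u V.1.ι ≫ Φ
    rw [pullback.condition_assoc]
    erw [𝒰.ι_glueMorphisms]
    let i := (isPullback_morphismRestrict u V.1).flip.isoPullback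
    rw [← cancel_epi i.hom]
    have h1 : i.hom ≫ pullback.fst u V.1.ι = (u ⁻¹ᵁ V.1).ι := IsPullback.isoPullback_hom_fst _
    have h2 : i.hom ≫ pullback.snd u V.1.ι = u ∣_ V.1 := IsPullback.isoPullback_hom_snd _
    exact (Category.assoc _ _ _).symm.trans ((congrArg (· ≫ gl V) h2).trans
      ((hgl V).trans ((congrArg (· ≫ Φ) h1).symm.trans (Category.assoc _ _ _))))

end Groth.Agent.Lib.UHFrob98.Factor
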